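import Mathlib
import Groth.Agent.Lib.Helper25.MultDesc
import Groth.Agent.Lib.Helper24.HopfFF.Range

/-!
# Helper24 — a monomorphism from a diagonalizable group to an affine group is a closed immersion

`φ : C →ₐc[R] R[M]` a bialgebra map from a commutative Hopf algebra.  The coaction
`(id ⊗ φ) ∘ Δ` grades `C` by `M`; `proj φ m` is the projector to the `m`-th graded piece and
`φ (proj φ m c) = coeff_m (φ c) • m`.  If `φ` is a monomorphism on points, then each ideal of
`m`-th coefficients is the unit ideal, hence `φ` is surjective.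
-/

set_option autoImplicit false
universe u

open TensorProduct

namespace Groth.Agent.Lib.Helper24.MultMono

open Groth.Agent.Lib.Helper25.MultDesc

section Diag
variable {R : Type u} [CommRing R] {M : Type u} [CommGroup M] {C : Type u} [CommRing C]
  [HopfAlgebra R C] (φ : C →ₐc[R] MonoidAlgebra R M)

/-- the `m`-th graded projector of `C` for the `M`-grading induced by `φ` -/
noncomputable def proj (m : M) : C →ₗ[R] C :=
  (TensorProduct.rid R C).toLinearMap ∘ₗ
    LinearMap.lTensor C (cf m ∘ₗ ((φ : C →ₐ[R] MonoidAlgebra R M).toLinearMap)) ∘ₗ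
      Coalgebra.comul

theorem rid_lTensor_cf_comul (m : M) (x : MonoidAlgebra R M) :
    TensorProduct.rid R (MonoidAlgebra R M)
      (LinearMap.lTensor (MonoidAlgebra R M) (cf m) (Coalgebra.comul (R := R) x)) =
      MonoidAlgebra.single m (cf m x) := by
  classical
  induction x using MonoidAlgebra.induction_linear with
  | zero => simp
  | add x y hx hy =>
    rw [map_add, map_add, map_add, hx, hy, map_add, MonoidAlgebra.single_add]
  | single g r =>
    rw [MonoidAlgebra.comul_single, CommSemiring.comul_apply, TensorProduct.map_tmul,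
      LinearMap.lTensor_tmul, TensorProduct.rid_tmul, MonoidAlgebra.lsingle_apply,
      MonoidAlgebra.lsingle_apply, cf_single]
    split_ifs with h
    · subst h
      rw [MonoidAlgebra.smul_single, smul_eq_mul, mul_one]
    · rw [zero_smul, MonoidAlgebra.single_zero]

theorem map_proj (m : M) (c : C) :
    φ (proj φ m c) = MonoidAlgebra.single m (cf m (φ c)) := by
  have key : ∀ t : C ⊗[R] C,
      φ (TensorProduct.rid R C (LinearMap.lTensor C
        (cf m ∘ₗ ((φ : C →ₐ[R] MonoidAlgebra R M).toLinearMap)) t)) =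
      TensorProduct.rid R _ (LinearMap.lTensor _ (cf m)
        (TensorProduct.map ((φ : C →ₐ[R] MonoidAlgebra R M).toLinearMap)
          ((φ : C →ₐ[R] MonoidAlgebra R M).toLinearMap) t)) := by
    intro t
    induction t using TensorProduct.induction_on with
    | zero => simp
    | tmul a b =>
      rw [LinearMap.lTensor_tmul, TensorProduct.rid_tmul, TensorProduct.map_tmul,
        LinearMap.lTensor_tmul, TensorProduct.rid_tmul, map_smul]
      rfl
    | add x y hx hy => simp only [map_add, hx, hy]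
  have hΔ : TensorProduct.map ((φ : C →ₐ[R] MonoidAlgebra R M).toLinearMap)
      ((φ : C →ₐ[R] MonoidAlgebra R M).toLinearMap) (Coalgebra.comul (R := R) c) =
      Coalgebra.comul (R := R) (φ c) :=
    congrArg (fun f : C →ₗ[R] _ => f c) (CoalgHomClass.map_comp_comul φ)
  rw [← rid_lTensor_cf_comul, ← hΔ]
  exact key _

/-- the ideal of `m`-th coefficients of elements of the image of `φ` -/
noncomputable def Icoef (m : M) : Ideal R :=
  LinearMap.range (cf m ∘ₗ ((φ : C →ₐ[R] MonoidAlgebra R M).toLinearMap))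

theorem mem_Icoef {m : M} {r : R} : r ∈ Icoef φ m ↔ ∃ c : C, cf m (φ c) = r :=
  LinearMap.mem_range

theorem surjective_of_one_mem (h : ∀ m, (1 : R) ∈ Icoef φ m) : Function.Surjective φ := by
  intro x
  induction x using MonoidAlgebra.induction_linear with
  | zero => exact ⟨0, map_zero _⟩
  | add x y hx hy =>
    obtain ⟨a, rfl⟩ := hx
    obtain ⟨b, rfl⟩ := hy
    exact ⟨a + b, map_add _ _ _⟩
  | single g r =>
    obtain ⟨c, hc⟩ := (mem_Icoef φ).mp (h g)
    refine ⟨r • proj φ g c, ?_⟩
    rw [map_smul, map_proj, hc, MonoidAlgebra.smul_single, smul_eq_mul, mul_one]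

/-- the subgroup of those `n` whose coefficient ideal is not contained in the prime `P` -/
noncomputable def Nsub (P : Ideal R) [hP : P.IsPrime] : Subgroup M where
  carrier := {n | ∃ c : C, cf n (φ c) ∉ P}
  one_mem' := by
    classical
    refine ⟨1, ?_⟩
    rw [map_one, MonoidAlgebra.one_def, cf_single, if_pos rfl]
    exact fun h => hP.ne_top ((Ideal.eq_top_iff_one P).mpr h)
  mul_mem' := by
    classical
    rintro n n' ⟨c, hc⟩ ⟨c', hc'⟩
    refine ⟨proj φ n c * proj φ n' c', ?_⟩
    rw [map_mul, map_proj, map_proj, MonoidAlgebra.single_mul_single, cf_single, if_pos rfl]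
    exact fun h => (hP.mem_or_mem h).elim hc hc'
  inv_mem' := by
    classical
    rintro n ⟨c, hc⟩
    refine ⟨HopfAlgebra.antipode R (proj φ n c), ?_⟩
    rw [← HopfFF.antipode_bialgHom, map_proj, MonoidAlgebra.antipode_single, cf_single, if_pos rfl]
    simpa using hc

theorem one_mem_Icoef
    (hmono : ∀ (T : Type u) [CommRing T] [Algebra R T],
      Function.Injective (fun x : MonoidAlgebra R M →ₐ[R] T =>
        x.comp (φ : C →ₐ[R] MonoidAlgebra R M)))
    (m : M) : (1 : R) ∈ Icoef φ m := by
  classical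
  by_contra h
  have hne : Icoef φ m ≠ ⊤ := fun h' => h ((Ideal.eq_top_iff_one _).mp h')
  obtain ⟨P, hP, hle⟩ := Ideal.exists_le_maximal _ hne
  haveI hPp : P.IsPrime := hP.isPrime
  have hmN : m ∉ Nsub φ P := by
    rintro ⟨c, hc⟩
    exact hc (hle ((mem_Icoef φ).mpr ⟨c, rfl⟩))
  haveI : Nontrivial (R ⧸ P) := Ideal.Quotient.nontrivial_iff.mpr hP.ne_top
  let F₁ : M →* MonoidAlgebra (R ⧸ P) (M ⧸ Nsub φ P) :=
    (MonoidAlgebra.of (R ⧸ P) (M ⧸ Nsub φ P)).comp (QuotientGroup.mk' (Nsub φ P))
  have heq : (MonoidAlgebra.lift R (MonoidAlgebra (R ⧸ P) (M ⧸ Nsub φ P)) M F₁).comp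
      (φ : C →ₐ[R] MonoidAlgebra R M) =
      (MonoidAlgebra.lift R (MonoidAlgebra (R ⧸ P) (M ⧸ Nsub φ P)) M 1).comp
      (φ : C →ₐ[R] MonoidAlgebra R M) := by
    refine AlgHom.ext fun c => ?_
    rw [AlgHom.comp_apply, AlgHom.comp_apply, MonoidAlgebra.lift_apply, MonoidAlgebra.lift_apply]
    refine Finsupp.sum_congr fun n _ => ?_
    by_cases hnN : n ∈ Nsub φ P
    · have : F₁ n = 1 := by
        change MonoidAlgebra.of (R ⧸ P) (M ⧸ Nsub φ P) (QuotientGroup.mk' (Nsub φ P) n) = 1
        have h0 : QuotientGroup.mk' (Nsub φ P) n = 1 := (QuotientGroup.eq_one_iff n).mpr hnN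
        rw [h0, map_one]
      rw [this, MonoidHom.one_apply]
    · have hz : ∀ r ∈ P, ∀ t : MonoidAlgebra (R ⧸ P) (M ⧸ Nsub φ P), r • t = 0 := by
        intro r hr t
        rw [← algebraMap_smul (R ⧸ P) r t,
          Ideal.Quotient.algebraMap_eq, Ideal.Quotient.eq_zero_iff_mem.mpr hr, zero_smul]
      have hmem : (((φ : C →ₐ[R] MonoidAlgebra R M) c).coeff n) ∈ P := by
        by_contra hh
        exact hnN ⟨c, hh⟩
      rw [hz _ hmem, hz _ hmem]
  have h1 := hmono _ heq
  have h2 := congrArg (fun x : MonoidAlgebra R M →ₐ[R] _ => x (MonoidAlgebra.single m 1)) h1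
  simp only [MonoidAlgebra.lift_single, one_smul, MonoidHom.one_apply] at h2
  have h3 : QuotientGroup.mk' (Nsub φ P) m = 1 :=
    MonoidAlgebra.of_injective (R := R ⧸ P) (M := M ⧸ Nsub φ P) (h2.trans (map_one _).symm)
  exact hmN ((QuotientGroup.eq_one_iff m).mp h3)

theorem surjective_diag
    (hmono : ∀ (T : Type u) [CommRing T] [Algebra R T],
      Function.Injective (fun x : MonoidAlgebra R M →ₐ[R] T =>
        x.comp (φ : C →ₐ[R] MonoidAlgebra R M))) :
    Function.Surjective φ :=
  surjective_of_one_mem φ (one_mem_Icoef φ hmono)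

end Diag

end Groth.Agent.Lib.Helper24.MultMono
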