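import Mathlib
import Groth.Agent.Lib.Helper24.MultMono.Diag

/-!
# Helper24 — monomorphisms from groups of multiplicative type are closed immersions
(reduction to the diagonalizable case)
-/

set_option autoImplicit false
universe u

open TensorProduct

namespace Groth.Agent.Lib.Helper24.MultMono

open Groth.Agent.Lib.Helper25.MultDesc

/-- the "monomorphism on points" property of a bialgebra map `φ : C → A` -/
def MonoPts (R : Type u) [CommRing R] {A C : Type u} [CommRing A] [CommRing C] [Algebra R A]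
    [Algebra R C] (φ : C →ₐ[R] A) : Prop :=
  ∀ (T : Type u) [CommRing T] [Algebra R T],
    Function.Injective (fun x : A →ₐ[R] T => x.comp φ)

section IsDiag
variable {R : Type u} [CommRing R] {A C : Type u} [CommRing A] [HopfAlgebra R A] [CommRing C]
  [HopfAlgebra R C]

theorem surjective_of_isDiag (hA : SGA3b.IsDiag R A) (φ : C →ₐc[R] A)
    (hmono : MonoPts R (φ : C →ₐ[R] A)) : Function.Surjective φ := by
  obtain ⟨M, _, ⟨e⟩⟩ := hA
  let ψ : C →ₐc[R] MonoidAlgebra R M := (e : A →ₐc[R] MonoidAlgebra R M).comp φ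
  have hψ : Function.Surjective ψ := by
    apply surjective_diag ψ
    intro T _ _ x y hxy
    have h1 : (x.comp (e : A →ₐ[R] MonoidAlgebra R M)).comp (φ : C →ₐ[R] A) =
        (y.comp (e : A →ₐ[R] MonoidAlgebra R M)).comp (φ : C →ₐ[R] A) := by
      refine AlgHom.ext fun c => ?_
      exact congrArg (fun f : C →ₐ[R] T => f c) hxy
    have h2 := hmono T h1
    refine AlgHom.ext fun z => ?_
    obtain ⟨a, rfl⟩ := e.surjective z
    exact congrArg (fun f : A →ₐ[R] T => f a) h2
  intro a
  obtain ⟨c, hc⟩ := hψ (e a)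
  exact ⟨c, e.injective hc⟩

end IsDiag

section BC
variable {R : Type u} [CommRing R] (R' : Type u) [CommRing R'] [Algebra R R']
  {A C : Type u} [CommRing A] [CommRing C] [Bialgebra R A] [Bialgebra R C]

theorem monoPts_bc (φ : C →ₐc[R] A) (hmono : MonoPts R (φ : C →ₐ[R] A)) :
    MonoPts R' ((bc R' φ : R' ⊗[R] C →ₐc[R'] R' ⊗[R] A) : R' ⊗[R] C →ₐ[R'] R' ⊗[R] A) := by
  intro T _ _ x y hxy
  letI : Algebra R T := ((algebraMap R' T).comp (algebraMap R R')).toAlgebra
  haveI : IsScalarTower R R' T := IsScalarTower.of_algebraMap_eq fun _ => rfl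
  let x' : A →ₐ[R] T := (x.restrictScalars R).comp Algebra.TensorProduct.includeRight
  let y' : A →ₐ[R] T := (y.restrictScalars R).comp Algebra.TensorProduct.includeRight
  have h1 : x'.comp (φ : C →ₐ[R] A) = y'.comp (φ : C →ₐ[R] A) := by
    refine AlgHom.ext fun c => ?_
    have := congrArg (fun f : R' ⊗[R] C →ₐ[R'] T => f ((1 : R') ⊗ₜ[R] c)) hxy
    exact this
  have h2 := hmono T h1
  refine Algebra.TensorProduct.ext' fun r a => ?_
  have h3 : x ((1 : R') ⊗ₜ[R] a) = y ((1 : R') ⊗ₜ[R] a) :=
    congrArg (fun f : A →ₐ[R] T => f a) h2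
  have h4 : (r ⊗ₜ[R] a : R' ⊗[R] A) = r • ((1 : R') ⊗ₜ[R] a) := by
    rw [TensorProduct.smul_tmul', smul_eq_mul, mul_one]
  rw [h4, map_smul, map_smul, h3]

theorem coe_bc (φ : C →ₐc[R] A) :
    ⇑(bc R' φ) = ⇑(LinearMap.lTensor R' ((φ : C →ₐ[R] A).toLinearMap)) := by
  funext z
  induction z using TensorProduct.induction_on with
  | zero => simp
  | tmul r c => rfl
  | add x y hx hy => rw [map_add, map_add, hx, hy]

end BC

section Cover
variable {R : Type u} [CommRing R] {A C : Type u} [CommRing A] [HopfAlgebra R A] [CommRing C]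
  [HopfAlgebra R C]

theorem isLocalizedModule_mk (R : Type u) [CommRing R] (N : Type u) [AddCommGroup N] [Module R N]
    (f : R) : IsLocalizedModule (Submonoid.powers f)
      (TensorProduct.mk R (Localization.Away f) N 1) :=
  (isLocalizedModule_iff_isBaseChange (Submonoid.powers f) (Localization.Away f) _).mpr
    (TensorProduct.isBaseChange R N (Localization.Away f))

theorem surjective_of_cover (s : Set R) (hs : Ideal.span s = ⊤) (φ : C →ₗ[R] A)
    (h : ∀ f ∈ s, Function.Surjective (LinearMap.lTensor (Localization.Away f) φ)) :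
    Function.Surjective φ := by
  intro a
  have hmem := Submodule.mem_of_span_eq_top_of_smul_pow_mem (LinearMap.range φ) s hs a ?_
  · exact hmem
  rintro ⟨f, hf⟩
  obtain ⟨y, hy⟩ := h f hf ((1 : Localization.Away f) ⊗ₜ[R] a)
  haveI := isLocalizedModule_mk R C f
  haveI := isLocalizedModule_mk R A f
  obtain ⟨⟨c, ⟨_, k, rfl⟩⟩, hc⟩ := IsLocalizedModule.surj (Submonoid.powers f)
    (TensorProduct.mk R (Localization.Away f) C 1) y
  have h1 : (TensorProduct.mk R (Localization.Away f) A 1) (f ^ k • a - φ c) = 0 := by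
    rw [map_sub, map_smul, TensorProduct.mk_apply, TensorProduct.mk_apply, ← hy,
      ← LinearMap.lTensor_tmul, ← map_smul, sub_eq_zero]
    exact congrArg _ hc
  obtain ⟨⟨_, j, rfl⟩, hj⟩ := (IsLocalizedModule.eq_zero_iff (Submonoid.powers f)
    (TensorProduct.mk R (Localization.Away f) A 1)).mp h1
  refine ⟨j + k, f ^ j • c, ?_⟩
  have hj' : f ^ j • (f ^ k • a - φ c) = 0 := hj
  rw [smul_sub, sub_eq_zero] at hj'
  rw [map_smul, ← hj', smul_smul, pow_add]

end Cover

section Main
variable (R : Type u) [CommRing R] (A : Type u) [CommRing A] [HopfAlgebra R A]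

theorem surjective_of_isMultType (h : SGA3b.IsMultType R A) (C : Type u) [CommRing C]
    [HopfAlgebra R C] (φ : C →ₐc[R] A) (hmono : MonoPts R (φ : C →ₐ[R] A)) :
    Function.Surjective φ := by
  obtain ⟨s, hs, hloc⟩ := h
  have key : Function.Surjective ((φ : C →ₐ[R] A).toLinearMap) := by
    apply surjective_of_cover s hs
    intro f hf
    obtain ⟨R2, _, _, hff, hdiag⟩ := hloc f hf
    have hm1 := monoPts_bc (Localization.Away f) φ hmono
    have hm2 := monoPts_bc R2 (bc (Localization.Away f) φ) hm1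
    have h3 := surjective_of_isDiag hdiag (bc R2 (bc (Localization.Away f) φ)) hm2
    have h4 : Function.Surjective (bc (Localization.Away f) φ) := by
      have h5 := h3
      rw [coe_bc] at h5
      exact (Module.FaithfullyFlat.lTensor_surjective_iff_surjective _ _ _).mp h5
    rw [← coe_bc]
    exact h4
  exact key

end Main

end Groth.Agent.Lib.Helper24.MultMono
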